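import Mathlib
import Cfsg.Agent.Lib.BrauerPairs.SubsectionCount
import Cfsg.Agent.Lib.BrauerPairs.Principal

/-!
# Blocks with a single nontrivial subsection

If `k(B) = l(B) + 1` then the nontrivial elements of the defect groups form one conjugacy class of
`G` and every nontrivial subsection of `B` has rank one.
-/

set_option autoImplicit false
set_option linter.style.haveILetI false
set_option linter.unusedSectionVars false

namespace Cfsg.Agent.Lib.OneSection

open MonoidAlgebra Cfsg.Agent.Lib.BrauerMap.Basic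
open Cfsg.Agent.Lib.BrauerPairs.Center Cfsg.Agent.Lib.BrauerPairs.Trunc
open Cfsg.Agent.Lib.BrauerPairs.Conj Cfsg.Agent.Lib.BrauerPairs.Pairs
open Cfsg.Agent.Lib.BrauerPairs.Transport Cfsg.Agent.Lib.BrauerPairs.Maximal
open Cfsg.Agent.Lib.BrauerPairs.Bridge Cfsg.Agent.Lib.BrauerPairs.Embed
open Cfsg.Agent.Lib.BrauerPairs.Local Cfsg.Agent.Lib.BrauerPairs.Abelian
open Cfsg.Agent.Lib.BrauerPairs.RankAbelian Cfsg.Agent.Lib.BrauerPairs.SubsectionCount
open Cfsg.Agent.Lib.BC78.Subsections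

universe u

attribute [local instance] Ideal.Quotient.field

variable {M : Ideal Cfsg.AlgInt} [M.IsMaximal] {G : Type u} [Group G] [Finite G]
  {p : ℕ} [Fact p.Prime]

local notation "C[" P "]" => Subgroup.centralizer ((P : Subgroup G) : Set G)

variable (hM : Cfsg.IsPModular p M)
include hM

variable [CharP (Res M) p] {ψ : Blk (Res M) G}
  (hk : Nat.card (toSet ψ) = Cfsg.blockRank p (toSet ψ) + 1)
include hk

open scoped Classical in
/-- Two nontrivial subsections: the same class, and rank one. -/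
theorem class_and_rank {x y : G} (hx1 : x ≠ 1) (hy1 : y ≠ 1)
    {a b : Idx (Res M) G} (ha1 : a.1 = Subgroup.zpowers x) (hb1 : b.1 = Subgroup.zpowers y)
    (ha : PairOf p ψ a) (hb : PairOf p ψ b) :
    IsConj x y ∧ Cfsg.blockRank p (toSet a.2) = 1 := by
  haveI := Fintype.ofFinite G
  obtain ⟨X, hX1, hX, hXrep⟩ := exists_reps (G := G) p
  have hB := isPBlock_toSet ψ
  have hsum := card_eq_sum hM X hX hXrep hB
  rw [← Finset.add_sum_erase X _ hX1, sum_indBlocks_one hM hB, hk] at hsum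
  have hS : ∑ z ∈ X.erase 1, ∑ e ∈ indBlocks M z (toSet ψ), Cfsg.blockRank p e = 1 := by omega
  have key : ∀ {u : G} {c : Idx (Res M) G}, u ≠ 1 → c.1 = Subgroup.zpowers u → PairOf p ψ c →
      ∃ u' ∈ X.erase 1, IsConj u u' ∧ ∃ e ∈ indBlocks M u' (toSet ψ),
        Cfsg.blockRank p e = Cfsg.blockRank p (toSet c.2) := by
    intro u c hu hc1 hc
    obtain ⟨k, hk'⟩ := IsPGroup.iff_orderOf.mp hc.1
      ⟨u, hc1.symm ▸ Subgroup.mem_zpowers u⟩
    obtain ⟨u', ⟨hu'X, hconj⟩, -⟩ := hXrep u ⟨k, by rw [← hk', Subgroup.orderOf_mk]⟩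
    obtain ⟨g, hg⟩ := isConj_iff.mp hconj
    have h1 : (cPair g c).1 = Subgroup.zpowers u' := by
      show c.1.map (MulAut.conj g).toMonoidHom = _
      rw [hc1, MonoidHom.map_zpowers, ← hg]
      rfl
    refine ⟨u', Finset.mem_erase.mpr ⟨fun e => hu ?_, hu'X⟩, hconj, _,
      mem_indBlocks.mpr (isInducedBlock_pairSet hM (pairOf_cPair hc g)
        (eq_centralizer_of_eq_zpowers h1)), ?_⟩
    · rw [e] at hg
      exact conj_eq_one_iff.mp hg
    · rw [blockRank_pairSet _ (eq_centralizer_of_eq_zpowers h1), blockRank_cPair]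
  obtain ⟨x', hx'X, hxx', e, he, her⟩ := key hx1 ha1 ha
  obtain ⟨y', hy'X, hyy', f, hf, hfr⟩ := key hy1 hb1 hb
  have hpos : ∀ (z : G), ∀ e ∈ indBlocks M z (toSet ψ), 1 ≤ Cfsg.blockRank p e := fun z e he =>
    one_le_blockRank hM (mem_indBlocks.mp he).1
  have hx'ge : 1 ≤ ∑ e ∈ indBlocks M x' (toSet ψ), Cfsg.blockRank p e :=
    (hpos x' e he).trans (Finset.single_le_sum (fun i _ => Nat.zero_le _) he)
  have hy'ge : 1 ≤ ∑ e ∈ indBlocks M y' (toSet ψ), Cfsg.blockRank p e :=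
    (hpos y' f hf).trans (Finset.single_le_sum (fun i _ => Nat.zero_le _) hf)
  have hxy : x' = y' := by
    by_contra hne
    have := Finset.sum_le_sum_of_subset
      (f := fun z => ∑ e ∈ indBlocks M z (toSet ψ), Cfsg.blockRank p e)
      (Finset.insert_subset hx'X (Finset.singleton_subset_iff.mpr hy'X))
    rw [Finset.sum_pair hne, hS] at this
    omega
  refine ⟨hxx'.trans (hxy ▸ hyy'.symm), ?_⟩
  have h1 : ∑ e ∈ indBlocks M x' (toSet ψ), Cfsg.blockRank p e ≤ 1 :=
    hS ▸ Finset.single_le_sum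
      (f := fun z => ∑ e ∈ indBlocks M z (toSet ψ), Cfsg.blockRank p e)
      (fun i _ => Nat.zero_le _) hx'X
  have h2 := (Finset.single_le_sum (fun i _ => Nat.zero_le _) he).trans h1
  have h3 := hpos x' e he
  omega

omit [CharP (Res M) p] in
/-- The nontrivial elements of a defect group are conjugate. -/
theorem isConj_of_mem [CharP (Res M) p] {D : Subgroup G} (hD : IsDef p ψ D) {x y : G}
    (hx : x ∈ D) (hy : y ∈ D) (hx1 : x ≠ 1) (hy1 : y ≠ 1) : IsConj x y := by
  obtain ⟨c, hc⟩ := exists_pairOf_isDef hD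
  obtain ⟨ω, hω⟩ := exists_le_of_le hD.isPGroup c _ (Subgroup.zpowers_le.mpr hx)
  obtain ⟨ω', hω'⟩ := exists_le_of_le hD.isPGroup c _ (Subgroup.zpowers_le.mpr hy)
  exact (class_and_rank hM hk hx1 hy1 (a := ⟨_, ω⟩) (b := ⟨_, ω'⟩) rfl rfl
    ((pairOf_iff_of_le hD.isPGroup hω ψ).mpr hc) ((pairOf_iff_of_le hD.isPGroup hω' ψ).mpr hc)).1

end Cfsg.Agent.Lib.OneSection
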