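import Mathlib
import Cfsg.Agent.Lib.OneSection.Sections
import Cfsg.Agent.Lib.Characters.Kernel
import Cfsg.Agent.Lib.Blocks.Orthogonality

/-!
# Commutativity of a defect group with one class of nontrivial elements

`mem_of_regular`: a principal block of rank one has all regular elements in its kernel, a
`p'`-group. `commute_of_centralizers`: Burnside's fusion argument and a fixed point free
involution. `commute_of_pSolvable`: first term of a solvable section meeting the group.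
-/

set_option autoImplicit false
set_option linter.style.haveILetI false
set_option linter.unusedSectionVars false

namespace Cfsg.Agent.Lib.OneSection

open Cfsg.Agent.Lib.Characters.Basic Cfsg.Agent.Lib.Characters.Kernel

universe u

variable {G : Type u} [Group G] [Finite G] {p : ℕ} [Fact p.Prime]

/-- A `p'`-element normalising a `p`-group centralizes it when the principal block has rank one. -/
theorem commutes_of_rankOne {M : Ideal Cfsg.AlgInt} [M.IsMaximal] (hM : Cfsg.IsPModular p M)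
    (h : Cfsg.blockRank p (Cfsg.principalBlock M G) = 1) {g : G} (hg : ¬ p ∣ orderOf g)
    {R : Subgroup G} (hR : IsPGroup p R) (hgR : ∀ r ∈ R, g * r * g⁻¹ ∈ R) {r : G} (hr : r ∈ R) :
    g * r = r * g := by
  classical
  have hB : Cfsg.IsPBlock M (Cfsg.principalBlock M G) :=
    Cfsg.Agent.Lib.Blocks.isPBlock_principalBlock
  let L : ↥(Cfsg.principalBlock M G) → Subgroup G := fun χ => charKer (isCharacter_irr χ.1)
  let K : Subgroup G := ⨅ χ, L χ
  have hKn : K.Normal := Subgroup.normal_iInf_normal fun χ => charKer_normal _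
  have hreg : ∀ y : G, ¬ p ∣ orderOf y → y ∈ K := by
    intro y hy
    refine Subgroup.mem_iInf.mpr fun χ => ?_
    show (χ.1 : G → ℂ) y = (χ.1 : G → ℂ) 1
    set v1 : G → ℂ := Cfsg.pRegularPart p (oneChar G : G → ℂ)
    set S := Submodule.span ℂ ((fun ξ : Cfsg.IrrCharacter G =>
      Cfsg.pRegularPart p (ξ : G → ℂ)) '' Cfsg.principalBlock M G)
    have hv1 : v1 ∈ S := Submodule.subset_span
      ⟨_, Cfsg.Agent.Lib.Blocks.oneChar_mem_principalBlock, rfl⟩
    have hone : ¬ p ∣ orderOf (1 : G) := by simp [(Fact.out : p.Prime).ne_one]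
    have hval : ∀ z : G, ¬ p ∣ orderOf z → v1 z = 1 := fun z hz => by
      show Cfsg.pRegularPart p _ z = 1
      rw [Cfsg.Agent.Lib.Blocks.Contrib.pRegularPart_apply, if_neg hz]
      rfl
    have hne : (⟨v1, hv1⟩ : S) ≠ 0 := fun e => by
      have := congrFun (congrArg Subtype.val e) 1
      simp only [ZeroMemClass.coe_zero, Pi.zero_apply] at this
      rw [hval 1 hone] at this
      exact one_ne_zero this
    obtain ⟨c, hc⟩ := exists_smul_eq_of_finrank_eq_one h hne
      (⟨_, Submodule.subset_span ⟨χ.1, χ.2, rfl⟩⟩ : S)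
    have hc' : ∀ z : G, ¬ p ∣ orderOf z → (χ.1 : G → ℂ) z = c := fun z hz => by
      have := congrFun (congrArg Subtype.val hc) z
      simp only [SetLike.val_smul, Pi.smul_apply, smul_eq_mul, hval z hz, mul_one] at this
      rw [Cfsg.Agent.Lib.Blocks.Contrib.pRegularPart_apply, if_neg hz] at this
      exact this.symm
    rw [hc' y hy, hc' 1 hone]
  have hpK : ∀ u ∈ K, ¬ p ∣ orderOf u := by
    intro u hu hd
    haveI := Fintype.ofFinite (Cfsg.IrrCharacter G)
    have h0 := Cfsg.Agent.Lib.Blocks.weak_orthogonality hM hB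
      (x := (1 : G)) (by simp [(Fact.out : p.Prime).ne_one]) hd
    rw [finsum_mem_eq_finite_toFinset_sum _ (Set.toFinite _)] at h0
    have h1 : (∑ χ ∈ (Set.toFinite (Cfsg.principalBlock M G)).toFinset,
        (Cfsg.charDegree (χ : G → ℂ) ^ 2 : ℕ) : ℂ) = 0 := by
      rw [← h0]
      refine Finset.sum_congr rfl fun χ hχ => ?_
      have e : (χ : G → ℂ) u = (χ : G → ℂ) 1 :=
        Subgroup.mem_iInf.mp hu ⟨χ, (Set.Finite.mem_toFinset _).mp hχ⟩
      rw [e, conj_apply_one (isCharacter_irr χ), Cfsg.Agent.Lib.Blocks.char_one_eq_degree,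
        Nat.cast_pow, sq]
    rw [← Nat.cast_sum, Nat.cast_eq_zero, Finset.sum_eq_zero_iff] at h1
    have h2 := h1 (oneChar G)
      ((Set.Finite.mem_toFinset _).mpr Cfsg.Agent.Lib.Blocks.oneChar_mem_principalBlock)
    exact absurd h2 (pow_ne_zero 2 (Cfsg.Agent.Lib.Blocks.charDegree_pos _).ne')
  have hgK := hreg g hg
  have hcK : g * r * g⁻¹ * r⁻¹ ∈ K := by
    rw [show g * r * g⁻¹ * r⁻¹ = g * (r * g⁻¹ * r⁻¹) by group]
    exact mul_mem hgK (hKn.conj_mem _ (inv_mem hgK) r)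
  have hcR : g * r * g⁻¹ * r⁻¹ ∈ R := mul_mem (hgR r hr) (inv_mem hr)
  obtain ⟨k, hk⟩ := IsPGroup.iff_orderOf.mp hR ⟨_, hcR⟩
  rw [Subgroup.orderOf_mk] at hk
  rcases Nat.eq_zero_or_pos k with rfl | hk0
  · rw [pow_zero, orderOf_eq_one_iff, mul_inv_eq_one, mul_inv_eq_iff_eq_mul] at hk
    exact hk
  · exact absurd (hk ▸ dvd_pow_self p hk0.ne') (hpK _ hcK)

omit [Fact p.Prime] in
/-- Exponent `p` from one class. -/
theorem pow_eq_one_of_isConj [Fact p.Prime] {D : Subgroup G} (hD : IsPGroup p D)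
    (hconj : ∀ x ∈ D, ∀ y ∈ D, x ≠ 1 → y ≠ 1 → IsConj x y) {x : G} (hx : x ∈ D) : x ^ p = 1 := by
  by_cases hx1 : x = 1
  · rw [hx1, one_pow]
  obtain ⟨k, hk⟩ := IsPGroup.iff_orderOf.mp hD ⟨x, hx⟩
  rw [Subgroup.orderOf_mk] at hk
  obtain ⟨k, rfl⟩ : ∃ j, k = j + 1 := Nat.exists_eq_succ_of_ne_zero fun e => hx1 (by
    rwa [e, pow_zero, orderOf_eq_one_iff] at hk)
  have hy : orderOf (x ^ p ^ k) = p := by
    rw [orderOf_pow' x (pow_ne_zero _ (Fact.out : p.Prime).ne_zero), hk,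
      Nat.gcd_eq_right (pow_dvd_pow p (Nat.le_succ k)), pow_succ,
      Nat.mul_div_cancel_left _ (pow_pos (Fact.out : p.Prime).pos k)]
  obtain ⟨c, hc⟩ := isConj_iff.mp (hconj x hx _ (pow_mem hx (p ^ k)) hx1 (fun e => by
    rw [e, orderOf_one] at hy
    exact (Fact.out : p.Prime).ne_one hy.symm))
  have ho : orderOf x = p := by
    rw [← hy, ← hc]
    exact ((MulAut.conj c).orderOf_eq x).symm
  calc x ^ p = x ^ orderOf x := by rw [ho]
    _ = 1 := pow_orderOf_eq_one x

omit [Fact p.Prime] in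
/-- An element inverted by conjugation is inverted by a conjugating element of two-power order. -/
theorem exists_two_elem_inverting {n z : G} (h : n * z * n⁻¹ = z⁻¹) (hz : z⁻¹ ≠ z) :
    ∃ t : G, t ∈ Subgroup.zpowers n ∧ t * z * t⁻¹ = z⁻¹ ∧ ∃ k : ℕ, t ^ 2 ^ (k + 1) = 1 := by
  have ho : orderOf n ≠ 0 := orderOf_ne_zero_iff.mpr (isOfFinOrder_of_finite n)
  obtain ⟨e, m, hm, hem⟩ := Nat.exists_eq_two_pow_mul_odd ho
  refine ⟨n ^ m, Subgroup.pow_mem _ (Subgroup.mem_zpowers n) m, ?_, e, ?_⟩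
  · have key : ∀ j : ℕ, n ^ (2 * j) * z * (n ^ (2 * j))⁻¹ = z := by
      intro j
      induction j with
      | zero => simp
      | succ j ih =>
        have e1 : n * z⁻¹ * n⁻¹ = z := by
          calc n * z⁻¹ * n⁻¹ = (n * z * n⁻¹)⁻¹ := by group
            _ = z := by rw [h, inv_inv]
        calc n ^ (2 * (j + 1)) * z * (n ^ (2 * (j + 1)))⁻¹
            = n * (n * (n ^ (2 * j) * z * (n ^ (2 * j))⁻¹) * n⁻¹) * n⁻¹ := by
              rw [show 2 * (j + 1) = (2 * j + 1) + 1 by ring, pow_succ', pow_succ']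
              group
          _ = z := by rw [ih, h, e1]
    obtain ⟨j, rfl⟩ := hm
    calc n ^ (2 * j + 1) * z * (n ^ (2 * j + 1))⁻¹
        = n * (n ^ (2 * j) * z * (n ^ (2 * j))⁻¹) * n⁻¹ := by rw [pow_succ']; group
      _ = z⁻¹ := by rw [key, h]
  · rw [← pow_mul, pow_succ, ← mul_assoc, mul_comm m, pow_mul, ← hem, pow_orderOf_eq_one,
      one_pow]

/-- A Sylow group with one class, all centralizers of whose nontrivial elements have trivial
`p'`-automisers, is abelian. -/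
theorem commute_of_centralizers (P : Sylow p G)
    (hconj : ∀ x ∈ P, ∀ y ∈ P, x ≠ 1 → y ≠ 1 → IsConj x y)
    (hcen : ∀ x ∈ P, x ≠ 1 → ∀ g : G, ¬ p ∣ orderOf g → g * x = x * g → ∀ R : Subgroup G,
      IsPGroup p R → (∀ r ∈ R, r * x = x * r) → (∀ r ∈ R, g * r * g⁻¹ ∈ R) →
        ∀ r ∈ R, g * r = r * g) :
    ∀ x ∈ P, ∀ y ∈ P, x * y = y * x := by
  have hexp : ∀ x ∈ P, x ^ p = 1 := fun x hx =>
    pow_eq_one_of_isConj (D := (P : Subgroup G)) P.2 hconj hx
  rcases eq_or_ne p 2 with rfl | hp2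
  · intro x hx y hy
    have hi : ∀ u ∈ P, u⁻¹ = u := fun u hu =>
      inv_eq_of_mul_eq_one_right (by rw [← sq]; exact hexp u hu)
    calc x * y = (x * y)⁻¹ := (hi _ (mul_mem hx hy)).symm
      _ = y⁻¹ * x⁻¹ := mul_inv_rev x y
      _ = y * x := by rw [hi x hx, hi y hy]
  rcases subsingleton_or_nontrivial (P : Subgroup G) with hP | hP
  · intro x hx y hy
    rw [show x = y from congrArg Subtype.val (Subsingleton.elim (⟨x, hx⟩ : (P : Subgroup G)) ⟨y, hy⟩)]
  haveI := hP
  haveI := P.2.center_nontrivial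
  obtain ⟨z, hz1⟩ := exists_ne (1 : Subgroup.center (P : Subgroup G))
  have hzP : ((z : (P : Subgroup G)) : G) ∈ P := (z : (P : Subgroup G)).2
  set w : G := ((z : (P : Subgroup G)) : G) with hwdef
  have hw1 : w ≠ 1 := fun e => hz1 (Subtype.ext (Subtype.ext e))
  have hwc : w ∈ Subgroup.centralizer (P : Set G) := Subgroup.mem_centralizer_iff.mpr fun y hy =>
    congrArg Subtype.val (Subgroup.mem_center_iff.mp z.2 ⟨y, hy⟩)
  have hwi : w⁻¹ ≠ w := fun e => by
    have h2 : orderOf w ∣ 2 := orderOf_dvd_of_pow_eq_one (by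
      rw [sq]; exact inv_eq_iff_mul_eq_one.mp e)
    have hpo : orderOf w = p := orderOf_eq_prime (hexp w hzP) hw1
    rw [hpo] at h2
    exact hp2 ((Nat.prime_dvd_prime_iff_eq Fact.out Nat.prime_two).mp h2)
  obtain ⟨c, hc⟩ := isConj_iff.mp (hconj w hzP w⁻¹ (inv_mem hzP) hw1 (inv_ne_one.mpr hw1))
  obtain ⟨n, hn, hne⟩ := P.conj_eq_normalizer_conj_of_mem_centralizer w c⁻¹ hwc
    (by rw [inv_inv, hc]; exact inv_mem hwc)
  rw [inv_inv, hc] at hne
  obtain ⟨t, htn, ht, k, htk⟩ := exists_two_elem_inverting (n := n⁻¹) (by rw [inv_inv]; exact hne.symm) hwi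
  have htN : t ∈ Subgroup.normalizer ((P : Subgroup G) : Set G) :=
    Subgroup.zpowers_le.mpr (inv_mem hn) htn
  -- pass to a power whose square centralizes `P` while itself it does not
  have hex : ∃ j : ℕ, ∀ x ∈ P, t ^ 2 ^ j * x * (t ^ 2 ^ j)⁻¹ = x :=
    ⟨k + 1, fun x _ => by rw [htk]; simp⟩
  classical
  obtain ⟨j, hj⟩ : ∃ j, Nat.find hex = j + 1 := Nat.exists_eq_succ_of_ne_zero fun e => by
    have := Nat.find_spec hex w hzP
    rw [e, pow_zero, pow_one, ht] at this
    exact hwi this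
  set s := t ^ 2 ^ j with hsdef
  have hsN : ∀ x ∈ P, s * x * s⁻¹ ∈ P := fun x hx =>
    (Subgroup.mem_normalizer_iff.mp (pow_mem htN _) x).mp hx
  have hs2 : ∀ x ∈ P, s * (s * x * s⁻¹) * s⁻¹ = x := fun x hx => by
    have := Nat.find_spec hex x hx
    rw [hj, pow_succ, pow_mul, ← hsdef, sq] at this
    calc s * (s * x * s⁻¹) * s⁻¹ = s * s * x * (s * s)⁻¹ := by group
      _ = x := this
  have hsne : ¬ ∀ x ∈ P, s * x * s⁻¹ = x := Nat.find_min hex (by omega : j < Nat.find hex)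
  have hsreg : ¬ p ∣ orderOf s := fun hd => by
    have h1 : orderOf s ∣ 2 ^ (k + 1) := orderOf_dvd_of_pow_eq_one (by
      rw [hsdef, ← pow_mul, mul_comm, pow_mul, htk, one_pow])
    exact hp2 ((Nat.prime_dvd_prime_iff_eq Fact.out Nat.prime_two).mp
      ((Fact.out : p.Prime).dvd_of_dvd_pow (hd.trans h1)))
  have hfix : ∀ x ∈ P, s * x * s⁻¹ = x → x = 1 := by
    intro x hx hsx
    by_contra hx1
    have hsx' : s * x = x * s := mul_inv_eq_iff_eq_mul.mp hsx
    have hw' : s * w = w * s := hcen x hx hx1 s hsreg hsx'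
      ((P : Subgroup G) ⊓ Subgroup.centralizer ({x} : Set G)) (P.2.to_le inf_le_left)
      (fun r hr => Subgroup.mem_centralizer_singleton_iff.mp hr.2)
      (fun r hr => ⟨hsN r hr.1, Subgroup.mem_centralizer_singleton_iff.mpr (by
        have e1 : r * x = x * r := Subgroup.mem_centralizer_singleton_iff.mp hr.2
        calc s * r * s⁻¹ * x = s * (r * (s⁻¹ * x * s)) * s⁻¹ := by group
          _ = s * (x * r) * s⁻¹ := by rw [mul_assoc s⁻¹ x s, ← hsx', inv_mul_cancel_left, e1]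
          _ = x * (s * r * s⁻¹) := by rw [← mul_assoc, hsx']; group)⟩)
      w ⟨hzP, Subgroup.mem_centralizer_singleton_iff.mpr
        ((Subgroup.mem_centralizer_iff.mp hwc x hx).symm)⟩
    refine hsne fun y hy => mul_inv_eq_iff_eq_mul.mpr ?_
    exact hcen w hzP hw1 s hsreg hw' (P : Subgroup G) P.2
      (fun r hr => Subgroup.mem_centralizer_iff.mp hwc r hr) hsN y hy
  let φ : (P : Subgroup G) →* (P : Subgroup G) :=
    { toFun := fun x => ⟨s * x * s⁻¹, hsN x x.2⟩
      map_one' := by ext; simp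
      map_mul' := fun a b => by ext; simp [mul_assoc] }
  have h1 : MonoidHom.FixedPointFree φ := fun x hx =>
    Subtype.ext (hfix x x.2 (congrArg Subtype.val hx))
  have h2 : Function.Involutive φ := fun x => Subtype.ext (hs2 x x.2)
  exact fun x hx y hy => congrArg Subtype.val (h1.commute_all_of_involutive h2 ⟨x, hx⟩ ⟨y, hy⟩)

/-- In a `p`-solvable group a `p`-subgroup with one class of nontrivial elements is abelian. -/
theorem commute_of_pSolvable (hG : Cfsg.IsPSolvable p G) {D : Subgroup G} (hD : IsPGroup p D)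
    (hconj : ∀ x ∈ D, ∀ y ∈ D, x ≠ 1 → y ≠ 1 → IsConj x y) :
    ∀ x ∈ D, ∀ y ∈ D, x * y = y * x := by
  classical
  by_cases hD1 : D = ⊥
  · intro x hx y _
    rw [(Subgroup.mem_bot.mp (hD1 ▸ hx) : x = 1), one_mul, mul_one]
  have hin : ∀ A : Subgroup G, A.Normal → D ⊓ A ≠ ⊥ → D ≤ A := by
    intro A hA h x hx
    obtain ⟨⟨a, ha⟩, hane⟩ := Subgroup.ne_bot_iff_exists_ne_one.mp h
    have ha1 : a ≠ 1 := fun e => hane (Subtype.ext e)
    by_cases hx1 : x = 1
    · exact hx1 ▸ one_mem A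
    obtain ⟨c, hc⟩ := isConj_iff.mp (hconj a ha.1 x hx ha1 hx1)
    exact hc ▸ hA.conj_mem a ha.2 c
  obtain ⟨n, H, h0, hlast, hmono, hnorm, hfac⟩ := hG
  have hex : ∃ i : ℕ, ∃ hi : i < n + 1, D ≤ H ⟨i, hi⟩ :=
    ⟨n, Nat.lt_succ_self n, by rw [show (⟨n, Nat.lt_succ_self n⟩ : Fin (n+1)) = Fin.last n from rfl, hlast]; exact le_top⟩
  obtain ⟨i, hi⟩ : ∃ i, Nat.find hex = i + 1 := Nat.exists_eq_succ_of_ne_zero fun e => by
    obtain ⟨hi, hle⟩ := Nat.find_spec hex
    rw [show (⟨Nat.find hex, hi⟩ : Fin (n+1)) = 0 from Fin.ext e, h0] at hle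
    exact hD1 (le_bot_iff.mp hle)
  obtain ⟨hi1, hle⟩ := Nat.find_spec hex
  have hin' : i < n := by omega
  set L := H (⟨i, hin'⟩ : Fin n).castSucc with hLdef
  set U := H (⟨i, hin'⟩ : Fin n).succ with hUdef
  have hDU : D ≤ U := by
    rw [hUdef, show (⟨i, hin'⟩ : Fin n).succ = ⟨Nat.find hex, hi1⟩ from Fin.ext hi.symm]
    exact hle
  haveI hLn : L.Normal := hnorm _
  have hDL : D ⊓ L = ⊥ := by
    by_contra h
    exact Nat.find_min hex (show i < Nat.find hex by omega) ⟨by omega, hin L hLn h⟩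
  have hLU : L ≤ U := hmono (Fin.castSucc_le_succ _)
  -- the section is a p-group
  rcases hfac ⟨i, hin'⟩ with ⟨m, hm⟩ | hcop
  swap
  · exfalso
    apply hD1
    rw [← hDL, eq_comm, inf_eq_left]
    intro x hx
    obtain ⟨j, hj⟩ := IsPGroup.iff_orderOf.mp hD ⟨x, hx⟩
    rw [Subgroup.orderOf_mk] at hj
    haveI : (L.subgroupOf U).Normal := inferInstance
    have h1 : orderOf (QuotientGroup.mk (⟨x, hDU hx⟩ : U) : U ⧸ L.subgroupOf U) ∣ p ^ j := by
      rw [← hj, ← Subgroup.orderOf_mk x (hDU hx)]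
      exact orderOf_map_dvd (QuotientGroup.mk' _) _
    have h2 : orderOf (QuotientGroup.mk (⟨x, hDU hx⟩ : U) : U ⧸ L.subgroupOf U) ∣
        L.relIndex U := orderOf_dvd_natCard _
    have h3 := Nat.eq_one_of_dvd_coprimes (hcop.pow_right j) h2 h1
    rwa [orderOf_eq_one_iff, QuotientGroup.eq_one_iff, Subgroup.mem_subgroupOf] at h3
  -- minimal normal subgroup between containing `D`
  have hexA : ∃ N : ℕ, ∃ A : Subgroup G, A.Normal ∧ L ≤ A ∧ A ≤ U ∧ D ≤ A ∧ Nat.card A = N :=
    ⟨_, U, hnorm _, hLU, le_rfl, hDU, rfl⟩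
  obtain ⟨A, hAn, hLA, hAU, hDA, hAc⟩ := Nat.find_spec hexA
  haveI := hAn
  set A' : Subgroup G := ⁅A, A⁆ ⊔ L with hA'
  have hA'A : A' ≤ A := sup_le (Subgroup.commutator_le_self A) hLA
  haveI : A'.Normal := Subgroup.sup_normal _ _
  have hq : IsPGroup p (↥A ⧸ L.subgroupOf A) := by
    obtain ⟨r, -, hr⟩ := (Nat.dvd_prime_pow (Fact.out : p.Prime)).mp
      (hm ▸ (Dvd.intro (A.relIndex U) (Subgroup.relIndex_mul_relIndex L A U hLA hAU) :
        L.relIndex A ∣ L.relIndex U))
    exact IsPGroup.of_card (n := r) hr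
  have hlt : A' ≠ A := by
    intro heq
    haveI := hq.isNilpotent
    haveI : Group.IsSolvable (↥A ⧸ L.subgroupOf A) := inferInstance
    have htop : commutator (↥A ⧸ L.subgroupOf A) = ⊤ := by
      have e1 : (A'.subgroupOf A).map (QuotientGroup.mk' (L.subgroupOf A)) = ⊤ := by
        rw [heq, Subgroup.subgroupOf_self]
        exact Subgroup.map_top_of_surjective _ (QuotientGroup.mk'_surjective _)
      rw [hA', Subgroup.subgroupOf_sup (Subgroup.commutator_le_self A) hLA, Subgroup.map_sup,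
        QuotientGroup.map_mk'_self, sup_bot_eq] at e1
      rw [← top_le_iff, ← e1]
      have e2 : (⁅A, A⁆).subgroupOf A = commutator ↥A := by
        apply Subgroup.map_injective A.subtype_injective
        rw [Subgroup.map_subgroupOf_eq_of_le (Subgroup.commutator_le_self A),
          Subgroup.map_subtype_commutator]
      rw [e2, commutator_def, Subgroup.map_commutator, commutator_def,
        Subgroup.map_top_of_surjective _ (QuotientGroup.mk'_surjective _)]
    have hs : Subsingleton (↥A ⧸ L.subgroupOf A) := by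
      by_contra hns
      haveI := not_subsingleton_iff_nontrivial.mp hns
      exact (Group.IsSolvable.commutator_lt_top_of_nontrivial _).ne htop
    have hAL : A ≤ L := fun a ha => by
      have := (QuotientGroup.eq_one_iff (N := L.subgroupOf A) (⟨a, ha⟩ : A)).mp
        (Subsingleton.elim _ _)
      exact this
    exact hD1 (by rw [← hDL, inf_eq_left.mpr (hDA.trans hAL)])
  have hDA' : D ⊓ A' = ⊥ := by
    by_contra h
    have := Nat.find_min hexA (m := Nat.card A')
      (hAc ▸ lt_of_le_of_ne (Subgroup.card_le_of_le hA'A) fun e =>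
        hlt (Subgroup.eq_of_le_of_card_ge hA'A e.ge))
    exact this ⟨A', inferInstance, le_sup_right, hA'A.trans hAU, hin A' inferInstance h, rfl⟩
  intro x hx y hy
  have hc : x * y * x⁻¹ * y⁻¹ ∈ D ⊓ A' :=
    ⟨D.mul_mem (D.mul_mem (D.mul_mem hx hy) (D.inv_mem hx)) (D.inv_mem hy),
      Subgroup.mem_sup_left (Subgroup.commutator_mem_commutator (hDA hx) (hDA hy))⟩
  rw [hDA', Subgroup.mem_bot, mul_inv_eq_one, mul_inv_eq_iff_eq_mul] at hc
  exact hc

end Cfsg.Agent.Lib.OneSection
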